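import Cfsg.Agent.Mrg.Omega.MutE.Perm
import Cfsg.Agent.Mrg.Omega.VP


/-!
# THEOREM E: root structure of the offenders in the FF theorem

`NatK.rootAct`, `SymK.rootAct`: an offender `A ≤ T` acts on `V` (with `C_V(O²(H)) = 1`) as a product of root
groups of order `|F|` resp. `2`.
-/

set_option autoImplicit false
set_option linter.unusedSectionVars false

namespace Cfsg.Agent.Omega.MutE

open Subgroup Cfsg Cfsg.Agent.ZN Cfsg.Agent.ZN.ChoiceBase Cfsg.Agent.Omega.FFThm
open Cfsg.Agent.Omega.NatPair (ap ap_zero' ap_one')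
open Cfsg.Agent.Lib.SL2Mat

universe u

variable {G : Type u} [Group G]

theorem comm_iff {a v : G} : a * v * a⁻¹ * v⁻¹ = 1 ↔ a * v = v * a := by
  rw [mul_inv_eq_one, mul_inv_eq_iff_eq_mul]

theorem iSupIndep_of {ι : Type*} {X K : ι → Subgroup G} (h1 : ∀ i j, j ≠ i → X j ≤ K i)
    (h2 : ∀ i, X i ⊓ K i = ⊥) : iSupIndep X := by
  intro i
  rw [disjoint_iff_inf_le]
  refine le_trans (inf_le_inf_left _ ?_) (h2 i).le
  exact iSup_le fun j => iSup_le fun hj => h1 i j hj

/-- Root structure from coordinates. -/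
theorem rootAct_of_field {F : Type*} [Field F] {ι : Type*} {V A : Subgroup G} {B : ι → Subgroup G}
    (lam mu : ι → G → F) (pt : ι → F → G) (hBA : ∀ i, B i ≤ A)
    (hptV : ∀ i c, pt i c ∈ V) (hpt1 : ∀ i, pt i 0 = 1) (hptm : ∀ i c d, pt i (c + d) = pt i c * pt i d)
    (hlam : ∀ i c, ∃ v ∈ V, lam i v = c)
    (hbr : ∀ i, ∀ a ∈ B i, ∃ b : F, ∀ v ∈ V, a * v * a⁻¹ * v⁻¹ = pt i (b * lam i v))
    (hbs : ∀ i, ∀ b : F, ∃ a ∈ B i, ∀ v ∈ V, a * v * a⁻¹ * v⁻¹ = pt i (b * lam i v))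
    (hmum : ∀ i, ∀ v ∈ V, ∀ w ∈ V, mu i (v * w) = mu i v + mu i w)
    (hmui : ∀ i c, mu i (pt i c) = c) (hmuj : ∀ i j c, j ≠ i → mu i (pt j c) = 0)
    (hgen : ∀ v ∈ V, (∀ i, ∀ a ∈ B i, a * v = v * a) → ∀ a ∈ A, a * v = v * a) :
    ∃ X : ι → Subgroup G, (∀ i x, x ∈ X i ↔ ∃ c, pt i c = x) ∧ RootAct V A X B (Nat.card F) := by
  have hinj : ∀ i, Function.Injective (pt i) := fun i c d h => by rw [← hmui i c, h, hmui]
  let X : ι → Subgroup G := fun i =>
    { carrier := {x | ∃ c, pt i c = x}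
      one_mem' := ⟨0, hpt1 i⟩
      mul_mem' := by
        rintro _ _ ⟨c, rfl⟩ ⟨d, rfl⟩
        exact ⟨c + d, hptm i c d⟩
      inv_mem' := by
        rintro _ ⟨c, rfl⟩
        refine ⟨-c, ?_⟩
        rw [eq_inv_iff_mul_eq_one, ← hptm, neg_add_cancel, hpt1] }
  have hX : ∀ i x, x ∈ X i ↔ ∃ c, pt i c = x := fun i x => Iff.rfl
  refine ⟨X, hX, ?_⟩
  have hmu1 : ∀ i, mu i 1 = 0 := by
    intro i
    have := hmum i 1 V.one_mem 1 V.one_mem
    rw [mul_one] at this
    exact left_eq_add.mp this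
  have hmuinv : ∀ i, ∀ v ∈ V, mu i v⁻¹ = -mu i v := by
    intro i v hv
    have := hmum i v hv v⁻¹ (inv_mem hv)
    rw [mul_inv_cancel, hmu1] at this
    exact (neg_eq_of_add_eq_zero_right this.symm).symm
  exact
    { XV := by
        rintro i _ ⟨c, rfl⟩
        exact hptV i c
      BA := hBA
      card := fun i => by
        refine (Nat.card_congr (Equiv.ofBijective (fun c => (⟨pt i c, ⟨c, rfl⟩⟩ : X i)) ⟨?_, ?_⟩)).symm
        · intro c d h
          exact hinj i (congrArg Subtype.val h)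
        · rintro ⟨_, c, rfl⟩
          exact ⟨c, rfl⟩
      brk := fun i a ha v hv => by
        obtain ⟨b, hb⟩ := hbr i a ha
        exact ⟨_, (hb v hv).symm⟩
      full := by
        rintro i a ha ⟨v, hv, hav⟩ _ ⟨c, rfl⟩
        obtain ⟨b, hb⟩ := hbr i a ha
        have hb0 : b ≠ 0 := by
          rintro rfl
          apply hav
          rw [← comm_iff, hb v hv, zero_mul, hpt1]
        obtain ⟨w, hw, hlw⟩ := hlam i (b⁻¹ * c)
        exact ⟨w, hw, by rw [hb w hw, hlw, mul_inv_cancel_left₀ hb0]⟩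
      full' := by
        rintro i v hv ⟨a, ha, hav⟩ _ ⟨c, rfl⟩
        obtain ⟨b, hb⟩ := hbr i a ha
        have hl0 : lam i v ≠ 0 := by
          intro h0
          apply hav
          rw [← comm_iff, hb v hv, h0, mul_zero, hpt1]
        obtain ⟨a', ha', hb'⟩ := hbs i (c * (lam i v)⁻¹)
        exact ⟨a', ha', by rw [hb' v hv, inv_mul_cancel_right₀ hl0]⟩
      ne := fun i => by
        obtain ⟨v, hv, hlv⟩ := hlam i 1
        obtain ⟨a, ha, hb⟩ := hbs i 1
        refine ⟨a, ha, v, hv, fun h => ?_⟩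
        rw [← comm_iff, hb v hv, hlv, mul_one, ← hpt1 i] at h
        exact one_ne_zero (hinj i h)
      gen := hgen
      indep := by
        let K : ι → Subgroup G := fun i =>
          { carrier := {v | v ∈ V ∧ mu i v = 0}
            one_mem' := ⟨V.one_mem, hmu1 i⟩
            mul_mem' := by
              rintro v w ⟨hv, hv0⟩ ⟨hw, hw0⟩
              exact ⟨mul_mem hv hw, by rw [hmum i v hv w hw, hv0, hw0, add_zero]⟩
            inv_mem' := by
              rintro v ⟨hv, hv0⟩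
              exact ⟨inv_mem hv, by rw [hmuinv i v hv, hv0, neg_zero]⟩ }
        refine iSupIndep_of (K := K) ?_ ?_
        · rintro i j hji _ ⟨c, rfl⟩
          exact ⟨hptV j c, hmuj i j c hji⟩
        · intro i
          rw [eq_bot_iff]
          rintro _ ⟨⟨c, rfl⟩, hK⟩
          have : c = 0 := by rw [← hmui i c]; exact hK.2
          rw [this, hpt1]
          exact one_mem _ }

/-! ### Natural modules -/

section nat

variable {F : Type} [Field F] {T H V : Subgroup G} {k : ℕ}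

theorem _root_.Cfsg.Agent.Omega.FFThm.NatK.e_inj (h : NatK F T H V ⊥ k) {v w : G} (hv : v ∈ V) (hw : w ∈ V)
    (he : h.e v = h.e w) : v = w := by
  have h1 : h.e (v * w⁻¹) = 0 := by
    rw [h.mul v hv _ (inv_mem hw)]
    have h2 : h.e w⁻¹ = - h.e w := by
      have h3 := h.mul w hw w⁻¹ (inv_mem hw)
      rw [mul_inv_cancel, (h.ker 1 V.one_mem).2 (one_mem _)] at h3
      exact (neg_eq_of_add_eq_zero_right h3.symm).symm
    rw [h2, he, add_neg_cancel]
  have h4 := (h.ker _ (mul_mem hv (inv_mem hw))).1 h1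
  rw [mem_bot, mul_inv_eq_one] at h4
  exact h4

theorem _root_.Cfsg.Agent.Omega.FFThm.NatK.e_one {D : Subgroup G} (h : NatK F T H V D k) : h.e 1 = 0 :=
  (h.ker 1 V.one_mem).2 (one_mem _)

theorem _root_.Cfsg.Agent.Omega.FFThm.NatK.e_inv {D : Subgroup G} (h : NatK F T H V D k) {v : G} (hv : v ∈ V) :
    h.e v⁻¹ = - h.e v := by
  have h3 := h.mul v hv v⁻¹ (inv_mem hv)
  rw [mul_inv_cancel, h.e_one] at h3
  exact (neg_eq_of_add_eq_zero_right h3.symm).symm

/-- the `i`-th factor of `V` (modulo `D`) -/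
def _root_.Cfsg.Agent.Omega.FFThm.NatK.fac {D : Subgroup G} (h : NatK F T H V D k) (i : Fin k) : Subgroup G where
  carrier := {v | v ∈ V ∧ ∀ j, j ≠ i → h.e v j = 0}
  one_mem' := ⟨V.one_mem, fun j _ => by rw [h.e_one]; rfl⟩
  mul_mem' := by
    rintro v w ⟨hv, h1⟩ ⟨hw, h2⟩
    exact ⟨mul_mem hv hw, fun j hj => by rw [h.mul v hv w hw, Pi.add_apply, h1 j hj, h2 j hj, add_zero]⟩
  inv_mem' := by
    rintro v ⟨hv, h1⟩
    exact ⟨inv_mem hv, fun j hj => by rw [h.e_inv hv, Pi.neg_apply, h1 j hj, neg_zero]⟩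

/-- the `T`-invariant point of the `i`-th factor of `V` (modulo `D`) -/
def _root_.Cfsg.Agent.Omega.FFThm.NatK.pt {D : Subgroup G} (h : NatK F T H V D k) (i : Fin k) : Subgroup G where
  carrier := {v | v ∈ V ∧ (∀ j, j ≠ i → h.e v j = 0) ∧ h.e v i 1 = 0}
  one_mem' := ⟨V.one_mem, fun j _ => by rw [h.e_one]; rfl, by rw [h.e_one]; rfl⟩
  mul_mem' := by
    rintro v w ⟨hv, h1, h3⟩ ⟨hw, h2, h4⟩
    refine ⟨mul_mem hv hw, fun j hj => by rw [h.mul v hv w hw, Pi.add_apply, h1 j hj, h2 j hj, add_zero], ?_⟩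
    rw [h.mul v hv w hw, Pi.add_apply, Pi.add_apply, h3, h4, add_zero]
  inv_mem' := by
    rintro v ⟨hv, h1, h3⟩
    refine ⟨inv_mem hv, fun j hj => by rw [h.e_inv hv, Pi.neg_apply, h1 j hj, neg_zero], ?_⟩
    rw [h.e_inv hv, Pi.neg_apply, Pi.neg_apply, h3, neg_zero]

theorem _root_.Cfsg.Agent.Omega.FFThm.NatK.mem_fac {D : Subgroup G} (h : NatK F T H V D k) {i : Fin k} {v : G} :
    v ∈ h.fac i ↔ v ∈ V ∧ ∀ j, j ≠ i → h.e v j = 0 := Iff.rfl

theorem _root_.Cfsg.Agent.Omega.FFThm.NatK.mem_pt {D : Subgroup G} (h : NatK F T H V D k) {i : Fin k} {v : G} :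
    v ∈ h.pt i ↔ v ∈ V ∧ (∀ j, j ≠ i → h.e v j = 0) ∧ h.e v i 1 = 0 := Iff.rfl

theorem _root_.Cfsg.Agent.Omega.FFThm.NatK.pt_le_fac {D : Subgroup G} (h : NatK F T H V D k) (i : Fin k) :
    h.pt i ≤ h.fac i := fun _ hv => ⟨hv.1, hv.2.1⟩

/-- **offenders on sums of natural modules** -/
theorem _root_.Cfsg.Agent.Omega.FFThm.NatK.rootAct (h : NatK F T H V ⊥ k) (hTV : T ≤ normalizer (V : Set G))
    {A : Subgroup G} (hA : A ≤ T) (hoff : Off V A) :
    ∃ (I : Set (Fin k)) (B : I → Subgroup G),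
      (∀ a ∈ A, ∃ b : Fin k → F, (∀ i, i ∉ I → b i = 0) ∧ ActsSL h.e V ⊥ a fun i => up (b i)) ∧
      (∀ b : Fin k → F, (∀ i, i ∉ I → b i = 0) → ∃ a ∈ A, ActsSL h.e V ⊥ a fun i => up (b i)) ∧
        (∀ i a, a ∈ B i ↔ a ∈ A ∧ ∃ b : F, ∀ v ∈ V, ∀ j, h.e (a * v * a⁻¹) j =
          ap (up ((Pi.single (i : Fin k) b : Fin k → F) j)) (h.e v j)) ∧
        RootAct V A (fun i : I => h.pt i) B (Nat.card F) := by
  classical
  obtain ⟨I, h1, h2⟩ := h.off A hA hoff
  have hAV : ∀ a ∈ A, ∀ v ∈ V, a * v * a⁻¹ ∈ V := fun a ha v hv =>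
    (mem_normalizer_iff.1 (hTV (hA ha)) v).1 hv
  have he1 : h.e 1 = 0 := h.e_one
  have heinv : ∀ v ∈ V, h.e v⁻¹ = - h.e v := fun v hv => h.e_inv hv
  -- the points
  choose w hwV hwe using h.surj
  let pt : I → F → G := fun i c => w (Pi.single (i : Fin k) ![c, 0])
  have hpte : ∀ i c, h.e (pt i c) = Pi.single (i : Fin k) ![c, 0] := fun i c => hwe _
  let Act : G → (Fin k → F) → Prop := fun a b => ∀ v ∈ V, ∀ j, h.e (a * v * a⁻¹) j = ap (up (b j)) (h.e v j)
  have hact : ∀ (a : G) (b : Fin k → F), a ∈ A → Act a b → ∀ v ∈ V, ∀ j,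
      h.e (a * v * a⁻¹ * v⁻¹) j = ![b j * h.e v j 1, 0] := by
    intro a b ha hab v hv j
    rw [h.mul _ (hAV a ha v hv) _ (inv_mem hv), heinv v hv, Pi.add_apply, hab v hv j, Pi.neg_apply]
    funext l
    fin_cases l
    · simp [ap]
    · simp [ap]
  let B : I → Subgroup G := fun i =>
    { carrier := {a | a ∈ A ∧ ∃ b : F, Act a (Pi.single (i : Fin k) b)}
      one_mem' := ⟨A.one_mem, 0, fun v hv j => by
        rw [Pi.single_zero, Pi.zero_apply, up_zero, NatPair.ap_one]; simp⟩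
      mul_mem' := by
        rintro a a' ⟨ha, b, hb⟩ ⟨ha', b', hb'⟩
        refine ⟨mul_mem ha ha', b + b', fun v hv j => ?_⟩
        have e1 : a * a' * v * (a * a')⁻¹ = a * (a' * v * a'⁻¹) * a⁻¹ := by group
        rw [e1, hb _ (hAV a' ha' v hv) j, hb' v hv j, ← NatPair.ap_mul, up_mul, Pi.single_add, Pi.add_apply]
      inv_mem' := by
        rintro a ⟨ha, b, hb⟩
        refine ⟨inv_mem ha, -b, fun v hv j => ?_⟩
        have h3 := hb _ (hAV a⁻¹ (inv_mem ha) v hv) j
        have e1 : a * (a⁻¹ * v * a⁻¹⁻¹) * a⁻¹ = v := by group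
        rw [e1] at h3
        rw [h3, ← NatPair.ap_mul, up_mul, Pi.single_neg, Pi.neg_apply, neg_add_cancel, up_zero, NatPair.ap_one] }
  have hgen : ∀ v ∈ V, (∀ i, ∀ a ∈ B i, a * v = v * a) → ∀ a ∈ A, a * v = v * a := by
    intro v hv hc a ha
    obtain ⟨b, hbI, hb⟩ := h1 a ha
    rw [← comm_iff]
    apply h.e_inj (mul_mem (hAV a ha v hv) (inv_mem hv)) V.one_mem
    funext j
    rw [hact a b ha hb.1 v hv j, he1]
    by_cases hj : j ∈ I
    · obtain ⟨a', ha', hb'⟩ := h2 (Pi.single j 1) (fun i hi => Pi.single_eq_of_ne (fun (e : i = j) => hi (by rw [e]; exact hj)) 1)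
      have h5 := hc ⟨j, hj⟩ a' ⟨ha', 1, hb'.1⟩
      rw [← comm_iff] at h5
      have h6 := hact a' _ ha' hb'.1 v hv j
      rw [h5, he1, Pi.single_eq_same, one_mul] at h6
      have h7 := congrFun h6 0
      have h8 : h.e v j 1 = 0 := h7.symm
      rw [h8, mul_zero]
      funext l
      fin_cases l <;> rfl
    · rw [hbI j hj, zero_mul]
      funext l
      fin_cases l <;> rfl
  obtain ⟨X, hX, hR⟩ := rootAct_of_field (V := V) (A := A) (B := B) (fun i v => h.e v i 1) (fun i v => h.e v i 0) pt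
    (fun i a ha => ha.1) (fun i c => hwV _) (fun i => by
      apply h.e_inj (hwV _) V.one_mem
      rw [hpte, he1]
      have : (![0, 0] : Fin 2 → F) = 0 := by funext l; fin_cases l <;> rfl
      rw [this, Pi.single_zero])
    (fun i c d => by
      apply h.e_inj (hwV _) (mul_mem (hwV _) (hwV _))
      rw [h.mul _ (hwV _) _ (hwV _), hwe, hwe, hwe, ← Pi.single_add]
      congr 1
      funext l
      fin_cases l <;> simp)
    (fun i c => by
      obtain ⟨v, hv, hve⟩ := h.surj (Pi.single (i : Fin k) ![0, c])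
      exact ⟨v, hv, by simp [hve]⟩)
    (fun i a ha => by
      obtain ⟨haA, b, hb⟩ := ha
      refine ⟨b, fun v hv => ?_⟩
      apply h.e_inj (mul_mem (hAV a haA v hv) (inv_mem hv)) (hwV _)
      funext j
      rw [hact a _ haA hb v hv j, hwe]
      by_cases hj : j = i
      · subst hj; simp
      · rw [Pi.single_eq_of_ne hj, Pi.single_eq_of_ne hj, zero_mul]
        funext l; fin_cases l <;> rfl)
    (fun i b => by
      obtain ⟨a', ha', hb'⟩ := h2 (Pi.single (i : Fin k) b) (fun j hj => by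
        have hji : j ≠ (i : Fin k) := fun e => hj (by rw [e]; exact i.2)
        simp [hji])
      refine ⟨a', ⟨ha', b, hb'.1⟩, fun v hv => ?_⟩
      apply h.e_inj (mul_mem (hAV a' ha' v hv) (inv_mem hv)) (hwV _)
      funext j
      rw [hact a' _ ha' hb'.1 v hv j, hwe]
      by_cases hj : j = i
      · subst hj; simp
      · rw [Pi.single_eq_of_ne hj, Pi.single_eq_of_ne hj, zero_mul]
        funext l; fin_cases l <;> rfl)
    (fun i v hv w hw => by rw [h.mul v hv w hw]; rfl)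
    (fun i c => by rw [hpte]; simp)
    (fun i j c hji => by
      rw [hpte, Pi.single_eq_of_ne (fun e => hji (Subtype.ext e.symm))]
      rfl)
    hgen
  have hXeq : X = fun i : I => h.pt i := by
    funext i
    ext x
    rw [hX, h.mem_pt]
    constructor
    · rintro ⟨c, rfl⟩
      refine ⟨hwV _, fun j hj => ?_, ?_⟩
      · rw [hpte, Pi.single_eq_of_ne hj]
      · rw [hpte, Pi.single_eq_same]; rfl
    rintro ⟨hx, h3, h4⟩
    refine ⟨h.e x i 0, ?_⟩
    apply h.e_inj (hwV _) hx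
    rw [hpte]
    funext j
    by_cases hj : j = i
    · subst hj
      rw [Pi.single_eq_same]
      funext l
      fin_cases l
      · rfl
      · exact h4.symm
    · rw [Pi.single_eq_of_ne hj, h3 j hj]
  rw [hXeq] at hR
  exact ⟨I, B, h1, h2, fun i a => Iff.rfl, hR⟩

end nat

/-! ### Even-subset modules -/

section sym

variable {T H V : Subgroup G} {k m : ℕ}

/-- the vector of the pair `{x, y}` of the summand `i` -/
def cvec {k n : ℕ} (p : Fin k × Fin n × Fin n) : Fin k → Fin n → ZMod 2 :=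
  fun j z => if j = p.1 ∧ (z = p.2.1 ∨ z = p.2.2) then 1 else 0

/-- the functional of the pair `{x, y}` of the summand `i` -/
def lamv {k n : ℕ} (p : Fin k × Fin n × Fin n) (y : Fin k → Fin n → ZMod 2) : ZMod 2 :=
  y p.1 p.2.1 + y p.1 p.2.2

theorem lamv_add {k n : ℕ} (p : Fin k × Fin n × Fin n) (y z : Fin k → Fin n → ZMod 2) :
    lamv p (y + z) = lamv p y + lamv p z := by
  unfold lamv
  rw [Pi.add_apply, Pi.add_apply, Pi.add_apply]
  ring

theorem zmod_two_mul (c : ZMod 2) : c + c = 0 := CharTwo.add_self_eq_zero c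

theorem lamv_cvec {k n : ℕ} (p : Fin k × Fin n × Fin n) (c : ZMod 2) : lamv p (c • cvec p) = 0 := by
  unfold lamv cvec
  simp [zmod_two_mul]

theorem sum_cvec {k n : ℕ} (p : Fin k × Fin n × Fin n) (hp : p.2.1 ≠ p.2.2) (c : ZMod 2) (j : Fin k) :
    ∑ x, (c • cvec p) j x = 0 := by
  classical
  by_cases hj : j = p.1
  · have h1 : ∀ x, (c • cvec p) j x = (if x = p.2.1 then c else 0) + (if x = p.2.2 then c else 0) := by
      intro x
      by_cases h2 : x = p.2.1
      · have h3 : x ≠ p.2.2 := fun h => hp (h2.symm.trans h)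
        simp [cvec, hj, h2, hp]
      · simp [cvec, hj, h2]
    rw [Finset.sum_congr rfl fun x _ => h1 x, Finset.sum_add_distrib]
    simp [zmod_two_mul]
  · simp [cvec, hj]

variable (h : SymK T H V ⊥ k m)

theorem _root_.Cfsg.Agent.Omega.FFThm.SymK.e_one {D : Subgroup G} (h : SymK T H V D k m) : h.e 1 = 0 :=
  (h.ker 1 V.one_mem).2 (one_mem _)

theorem _root_.Cfsg.Agent.Omega.FFThm.SymK.e_inv {D : Subgroup G} (h : SymK T H V D k m) {v : G} (hv : v ∈ V) :
    h.e v⁻¹ = h.e v := by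
  have h3 := h.mul v hv v⁻¹ (inv_mem hv)
  rw [mul_inv_cancel, h.e_one] at h3
  have h4 := (neg_eq_of_add_eq_zero_right h3.symm).symm
  rw [h4]
  funext i x
  exact CharTwo.neg_eq _

theorem _root_.Cfsg.Agent.Omega.FFThm.SymK.e_inj (h : SymK T H V ⊥ k m) {v w : G} (hv : v ∈ V) (hw : w ∈ V)
    (he : h.e v = h.e w) : v = w := by
  have h1 : h.e (v * w⁻¹) = 0 := by
    rw [h.mul v hv _ (inv_mem hw), h.e_inv hw, he]
    funext i x
    exact zmod_two_mul _
  have h4 := (h.ker _ (mul_mem hv (inv_mem hw))).1 h1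
  rw [mem_bot, mul_inv_eq_one] at h4
  exact h4

/-- the point of the pair `{x, y}` of the `i`-th factor -/
def _root_.Cfsg.Agent.Omega.FFThm.SymK.pt (h : SymK T H V ⊥ k m)
    (p : Fin k × Fin (2 ^ m + 1) × Fin (2 ^ m + 1)) : Subgroup G where
  carrier := {v | v ∈ V ∧ (v = 1 ∨ h.e v = cvec p)}
  one_mem' := ⟨V.one_mem, Or.inl rfl⟩
  mul_mem' := by
    rintro v w ⟨hv, h1⟩ ⟨hw, h2⟩
    refine ⟨mul_mem hv hw, ?_⟩
    rcases h1 with rfl | h1
    · rw [one_mul]; exact h2
    · rcases h2 with rfl | h2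
      · rw [mul_one]; exact Or.inr h1
      · left
        apply h.e_inj (mul_mem hv hw) V.one_mem
        rw [h.mul v hv w hw, h1, h2, h.e_one]
        funext i x
        exact zmod_two_mul _
  inv_mem' := by
    rintro v ⟨hv, h1⟩
    refine ⟨inv_mem hv, ?_⟩
    rcases h1 with rfl | h1
    · exact Or.inl inv_one
    · right; rw [h.e_inv hv, h1]

theorem _root_.Cfsg.Agent.Omega.FFThm.SymK.mem_pt (h : SymK T H V ⊥ k m)
    {p : Fin k × Fin (2 ^ m + 1) × Fin (2 ^ m + 1)} {v : G} :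
    v ∈ h.pt p ↔ v ∈ V ∧ (v = 1 ∨ h.e v = cvec p) := Iff.rfl

/-- an element acting as a transposition -/
theorem _root_.Cfsg.Agent.Omega.FFThm.SymK.swap_iff {D : Subgroup G} (h : SymK T H V D k m) {b : G}
    (p : Fin k × Fin (2 ^ m + 1) × Fin (2 ^ m + 1))
    (hb : ActsSym h.e V b 1 (Function.update 1 p.1 (Equiv.swap p.2.1 p.2.2))) {v : G} (hv : v ∈ V) :
    h.e (b * v * b⁻¹) = h.e v + lamv p (h.e v) • cvec p := by
  funext j z
  by_cases hj : j = p.1
  · subst hj
    have h1 := hb v hv p.1 (Equiv.swap p.2.1 p.2.2 z)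
    rw [Function.update_self, Equiv.swap_apply_self] at h1
    have h2 : h.e (b * v * b⁻¹) p.1 z = h.e v p.1 (Equiv.swap p.2.1 p.2.2 z) := h1
    rw [h2]
    by_cases hx : z = p.2.1
    · rw [hx, Equiv.swap_apply_left]
      simp only [lamv, cvec, Pi.add_apply, Pi.smul_apply, smul_eq_mul, true_and, true_or, if_true, mul_one]
      rw [← add_assoc, zmod_two_mul, zero_add]
    · by_cases hy : z = p.2.2
      · rw [hy, Equiv.swap_apply_right]
        simp only [lamv, cvec, Pi.add_apply, Pi.smul_apply, smul_eq_mul, true_and, or_true, if_true, mul_one]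
        rw [add_comm (h.e v p.1 p.2.1), ← add_assoc, zmod_two_mul, zero_add]
      · rw [Equiv.swap_apply_of_ne_of_ne hx hy]
        simp [cvec, hx, hy]
  · have h1 := hb v hv j z
    rw [Function.update_of_ne hj] at h1
    have h2 : h.e (b * v * b⁻¹) j z = h.e v j z := h1
    rw [h2]
    simp [cvec, hj]

/-- **offenders on sums of even-subset modules** -/
theorem _root_.Cfsg.Agent.Omega.FFThm.SymK.rootAct (h : SymK T H V ⊥ k m) (hm : 1 ≤ m)
    (hTV : T ≤ normalizer (V : Set G)) {A : Subgroup G} (hA : A ≤ T) (hoff : Off V A) :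
    ∃ (I : Set (Fin k × Fin (2 ^ m + 1) × Fin (2 ^ m + 1))) (B : I → Subgroup G),
      (∀ p, p ∈ I ↔ p.2.1 < p.2.2 ∧
        ∃ b ∈ A, ActsSym h.e V b 1 (Function.update 1 p.1 (Equiv.swap p.2.1 p.2.2))) ∧
        (∀ (p : I) a, a ∈ B p ↔ a ∈ A ∧ ∃ b : ZMod 2, ∀ v ∈ V,
          h.e (a * v * a⁻¹) = h.e v + (b * lamv (p : Fin k × Fin (2 ^ m + 1) × Fin (2 ^ m + 1)) (h.e v)) • cvec p.1) ∧
        RootAct V A (fun p : I => h.pt p) B 2 := by
  classical
  obtain ⟨-, h1⟩ := h.off A hA hoff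
  have hAV : ∀ a ∈ A, ∀ v ∈ V, a * v * a⁻¹ ∈ V := fun a ha v hv =>
    (mem_normalizer_iff.1 (hTV (hA ha)) v).1 hv
  let I : Set (Fin k × Fin (2 ^ m + 1) × Fin (2 ^ m + 1)) :=
    {p | p.2.1 < p.2.2 ∧ ∃ b ∈ A, ActsSym h.e V b 1 (Function.update 1 p.1 (Equiv.swap p.2.1 p.2.2))}
  have hIne : ∀ p : I, p.1.2.1 ≠ p.1.2.2 := fun p => p.2.1.ne
  -- the points
  have hw : ∀ (p : I) (c : ZMod 2), ∃ v ∈ V, h.e v = c • cvec p.1 := fun p c =>
    h.surj _ (sum_cvec p.1 (hIne p) c)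
  choose pt hptV hpte using hw
  -- any two pairs are disjoint or equal
  have hdis : ∀ p q : I, p ≠ q → (cvec q.1 : Fin k → Fin (2 ^ m + 1) → ZMod 2) p.1.1 p.1.2.1 = 0 := by
    rintro ⟨⟨j, x, y⟩, hxy, bp, hbp, hsp⟩ ⟨⟨j', x', y'⟩, hxy', bq, hbq, hsq⟩ hpq
    change x < y at hxy
    change x' < y' at hxy'
    by_contra hne
    have hmem : j = j' ∧ (x = x' ∨ x = y') := by
      by_contra hcon
      exact hne (if_neg hcon)
    obtain ⟨rfl, hx⟩ := hmem
    have hneq : ¬ (x = x' ∧ y = y') := by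
      rintro ⟨rfl, rfl⟩
      exact hpq rfl
    -- the two transpositions commute
    have hcomm : bp * bq = bq * bp := by
      have h2 := hoff.elem.1
      exact h2.is_comm.comm (⟨bp, hbp⟩ : A) ⟨bq, hbq⟩ |> congrArg Subtype.val
    obtain ⟨v, hv, hve⟩ := h.surj _ (sum_cvec (k := k) (j, x, y) hxy.ne 1)
    rw [one_smul] at hve
    have e1 : bp * (bq * v * bq⁻¹) * bp⁻¹ = bq * (bp * v * bp⁻¹) * bq⁻¹ := by
      have e2 : bp * (bq * v * bq⁻¹) * bp⁻¹ = (bp * bq) * v * (bp * bq)⁻¹ := by group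
      rw [e2, hcomm]; group
    have e3 : lamv (j, x, y) (cvec (k := k) (j, x, y)) = 0 := by
      have := lamv_cvec (k := k) (j, x, y) 1
      rwa [one_smul] at this
    have h3 : h.e (bp * v * bp⁻¹) = cvec (j, x, y) := by
      rw [h.swap_iff (j, x, y) hsp hv, hve, e3, zero_smul, add_zero]
    have h4 := congrArg h.e e1
    rw [h.swap_iff (j, x, y) hsp (hAV bq hbq v hv), h.swap_iff (j, x', y') hsq hv,
      h.swap_iff (j, x', y') hsq (hAV bp hbp v hv), h3, hve, add_eq_left, lamv_add, e3, zero_add] at h4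
    have h5 := congrFun (congrFun h4 j) x
    have h6 : lamv (j, x, y) (lamv (j, x', y') (cvec (k := k) (j, x, y)) • cvec (k := k) (j, x', y')) = 0 := by
      simpa [cvec] using h5
    have hdec : lamv (k := k) (j, x', y') (cvec (j, x, y)) = 1 ∧ lamv (k := k) (j, x, y) (cvec (j, x', y')) = 1 := by
      rcases hx with rfl | rfl
      · have h7 : y ≠ y' := fun e => hneq ⟨rfl, e⟩
        simp [lamv, cvec, hxy.ne', hxy'.ne', h7, h7.symm]
      · have h7 : x' ≠ y := (hxy'.trans hxy).ne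
        simp [lamv, cvec, hxy.ne', hxy'.ne, h7, h7.symm]
    rw [hdec.1, one_smul, hdec.2] at h6
    exact one_ne_zero h6
  let B : I → Subgroup G := fun p =>
    { carrier := {a | a ∈ A ∧ ∃ b : ZMod 2, ∀ v ∈ V, h.e (a * v * a⁻¹) = h.e v + (b * lamv p.1 (h.e v)) • cvec p.1}
      one_mem' := ⟨A.one_mem, 0, fun v hv => by simp⟩
      mul_mem' := by
        rintro a a' ⟨ha, b, hb⟩ ⟨ha', b', hb'⟩
        refine ⟨mul_mem ha ha', b + b', fun v hv => ?_⟩
        have e1 : a * a' * v * (a * a')⁻¹ = a * (a' * v * a'⁻¹) * a⁻¹ := by group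
        rw [e1, hb _ (hAV a' ha' v hv), hb' v hv, lamv_add, lamv_cvec, add_zero, add_assoc, ← add_smul]
        congr 2
        ring
      inv_mem' := by
        rintro a ⟨ha, b, hb⟩
        refine ⟨inv_mem ha, b, fun v hv => ?_⟩
        have h3 := hb _ (hAV a⁻¹ (inv_mem ha) v hv)
        have e1 : a * (a⁻¹ * v * a⁻¹⁻¹) * a⁻¹ = v := by group
        rw [e1] at h3
        have h4 : lamv p.1 (h.e v) = lamv p.1 (h.e (a⁻¹ * v * a⁻¹⁻¹)) := by
          conv_lhs => rw [h3]
          rw [lamv_add, lamv_cvec, add_zero]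
        rw [h4]
        conv_rhs => rw [h3]
        rw [add_assoc, ← add_smul, zmod_two_mul, zero_smul, add_zero] }
  have hgen : ∀ v ∈ V, (∀ i, ∀ a ∈ B i, a * v = v * a) → ∀ a ∈ A, a * v = v * a := by
    intro v hv hc a ha
    obtain ⟨τ, hτ, hτ2⟩ := h1 a ha
    rw [← comm_iff]
    apply h.e_inj (mul_mem (hAV a ha v hv) (inv_mem hv)) V.one_mem
    have hkey : h.e (a * v * a⁻¹) = h.e v := by
      funext j z
      obtain ⟨z', rfl⟩ := (τ j).surjective z
      have h3 : h.e (a * v * a⁻¹) j (τ j z') = h.e v j z' := hτ v hv j z'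
      rw [h3]
      by_cases hz : τ j z' = z'
      · rw [hz]
      · obtain ⟨-, b, hb, hbs⟩ := hτ2 j z' hz
        -- the pair
        have main : ∀ x y : Fin (2 ^ m + 1), x < y →
            ActsSym h.e V b 1 (Function.update 1 j (Equiv.swap x y)) → h.e v j x = h.e v j y := by
          intro x y hxy hxs
          have hb1 : b ∈ B ⟨(j, x, y), hxy, b, hb, hxs⟩ :=
            ⟨hb, 1, fun v hv => by rw [one_mul]; exact h.swap_iff (j, x, y) hxs hv⟩
          have h5 := hc _ b hb1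
          rw [← comm_iff, mul_inv_eq_one] at h5
          have h6 := h.swap_iff (j, x, y) hxs hv
          rw [h5, left_eq_add] at h6
          have h7 := congrFun (congrFun h6 j) x
          simp only [lamv, cvec, Pi.smul_apply, smul_eq_mul, true_and, true_or, if_true, mul_one, Pi.zero_apply] at h7
          exact CharTwo.add_eq_zero.1 h7
        rcases lt_or_gt_of_ne hz with hlt | hlt
        · exact (main _ _ hlt (by rw [Equiv.swap_comm]; exact hbs)).symm
        · exact main _ _ hlt hbs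
    rw [h.mul _ (hAV a ha v hv) _ (inv_mem hv), h.e_inv hv, hkey, h.e_one]
    funext i x
    exact zmod_two_mul _
  have hbr0 : ∀ a ∈ A, ∀ (b : ZMod 2) (p : I), (∀ v ∈ V, h.e (a * v * a⁻¹) = h.e v + (b * lamv p.1 (h.e v)) • cvec p.1) →
      ∀ v ∈ V, a * v * a⁻¹ * v⁻¹ = pt p (b * lamv p.1 (h.e v)) := by
    intro a ha b p hb v hv
    apply h.e_inj (mul_mem (hAV a ha v hv) (inv_mem hv)) (hptV _ _)
    rw [h.mul _ (hAV a ha v hv) _ (inv_mem hv), h.e_inv hv, hb v hv, hpte, add_comm (h.e v), add_assoc]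
    have : h.e v + h.e v = 0 := by funext i x; exact zmod_two_mul _
    rw [this, add_zero]
  obtain ⟨X, hX, hR⟩ := rootAct_of_field (V := V) (A := A) (B := B) (fun p v => lamv p.1 (h.e v))
    (fun p v => h.e v p.1.1 p.1.2.1) pt
    (fun i a ha => ha.1) hptV (fun i => by
      apply h.e_inj (hptV _ _) V.one_mem
      rw [hpte, h.e_one, zero_smul])
    (fun i c d => by
      apply h.e_inj (hptV _ _) (mul_mem (hptV _ _) (hptV _ _))
      rw [h.mul _ (hptV _ _) _ (hptV _ _), hpte, hpte, hpte, add_smul])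
    (fun p c => by
      rcases (by revert c; decide : ∀ c : ZMod 2, c = 0 ∨ c = 1) c with rfl | rfl
      · refine ⟨1, V.one_mem, ?_⟩
        simp only [h.e_one]
        simp [lamv]
      · -- a third point
        have h3 : ∃ z : Fin (2 ^ m + 1), z ≠ p.1.2.1 ∧ z ≠ p.1.2.2 := by
          have h5 : 2 ≤ 2 ^ m := by
            calc 2 = 2 ^ 1 := by norm_num
              _ ≤ 2 ^ m := Nat.pow_le_pow_right (by norm_num) hm
          have h4 : ({p.1.2.1, p.1.2.2} : Finset (Fin (2 ^ m + 1))).card < Fintype.card (Fin (2 ^ m + 1)) := by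
            rw [Fintype.card_fin]
            exact lt_of_le_of_lt Finset.card_le_two (by omega)
          obtain ⟨z, hz⟩ := Finset.exists_mem_notMem_of_card_lt_card
            (by rwa [← Finset.card_univ] at h4)
          exact ⟨z, by simpa [not_or] using hz.2⟩
        obtain ⟨z, hz1, hz2⟩ := h3
        obtain ⟨v, hv, hve⟩ := h.surj _ (sum_cvec (k := k) (p.1.1, p.1.2.1, z) hz1.symm 1)
        refine ⟨v, hv, ?_⟩
        simp only [hve, one_smul]
        simp [lamv, cvec, (hIne p).symm, hz2.symm])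
    (fun i a ha => by
      obtain ⟨haA, b, hb⟩ := ha
      exact ⟨b, hbr0 a haA b i hb⟩)
    (fun p b => by
      rcases (by revert b; decide : ∀ b : ZMod 2, b = 0 ∨ b = 1) b with rfl | rfl
      · refine ⟨1, (B p).one_mem, hbr0 1 A.one_mem 0 p fun v hv => by simp⟩
      · obtain ⟨-, b, hb, hbs⟩ := p.2
        have h3 : ∀ v ∈ V, h.e (b * v * b⁻¹) = h.e v + (1 * lamv p.1 (h.e v)) • cvec p.1 := fun v hv => by
          rw [one_mul]; exact h.swap_iff p.1 hbs hv
        exact ⟨b, ⟨hb, 1, h3⟩, hbr0 b hb 1 p h3⟩)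
    (fun i v hv w hw => by rw [h.mul v hv w hw]; rfl)
    (fun i c => by rw [hpte]; simp [cvec])
    (fun i j c hji => by
      rw [hpte]
      change c • (cvec j.1 i.1.1 i.1.2.1) = 0
      rw [hdis i j hji.symm, smul_zero])
    hgen
  have hXeq : X = fun p : I => h.pt p := by
    funext p
    ext x
    rw [hX, h.mem_pt]
    constructor
    · rintro ⟨c, rfl⟩
      refine ⟨hptV _ _, ?_⟩
      rcases (by revert c; decide : ∀ c : ZMod 2, c = 0 ∨ c = 1) c with rfl | rfl
      · left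
        apply h.e_inj (hptV _ _) V.one_mem
        rw [hpte, h.e_one, zero_smul]
      · right
        rw [hpte, one_smul]
    · rintro ⟨hx, rfl | h3⟩
      · refine ⟨0, ?_⟩
        apply h.e_inj (hptV _ _) V.one_mem
        rw [hpte, h.e_one, zero_smul]
      · refine ⟨1, ?_⟩
        apply h.e_inj (hptV _ _) hx
        rw [hpte, one_smul, h3]
  rw [Nat.card_eq_fintype_card, ZMod.card, hXeq] at hR
  exact ⟨I, B, fun p => Iff.rfl, fun i a => Iff.rfl, hR⟩

end sym

end Cfsg.Agent.Omega.MutE
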